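import Mathlib.RingTheory.Etale.Kaehler
import Mathlib.RingTheory.Etale.Field
import Mathlib.RingTheory.Smooth.Kaehler
import Mathlib.RingTheory.Smooth.StandardSmoothCotangent
import Mathlib.RingTheory.Nakayama
import Mathlib.RingTheory.LocalRing.ResidueField.Basic

/-!
# The differential of a uniformizer on a smooth curve germ
-/

universe u

open TensorProduct IsLocalRing

namespace GrothLib.UnifDiff9

variable {k R : Type u} [Field k] [CommRing R] [IsLocalRing R] [Algebra k R]

/-- A local formally smooth algebra with free differentials of rank one and separable residue field: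
the differential of an irreducible element is a basis. -/
theorem bijective_smul_D [IsNoetherianRing R] [Algebra.FormallySmooth k R] (e : Ω[R⁄k] ≃ₗ[R] R)
    [Algebra.IsSeparable k (ResidueField R)] {s : R} (hs : Irreducible s) :
    Function.Bijective (fun a : R => a • KaehlerDifferential.D k R s) := by
  have hf : Function.Surjective (algebraMap R (ResidueField R)) := residue_surjective
  have : Algebra.FormallyEtale k (ResidueField R) := Algebra.FormallyEtale.of_isSeparable k _
  obtain ⟨l, hl⟩ := (Algebra.FormallySmooth.iff_split_injection hf).1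
    (inferInstance : Algebra.FormallySmooth k (ResidueField R))
  let m := RingHom.ker (algebraMap R (ResidueField R))
  have hm : m = maximalIdeal R := ker_residue
  let w : ResidueField R ⊗[R] Ω[R⁄k] := 1 ⊗ₜ e.symm 1
  obtain ⟨c, hc⟩ : w ∈ LinearMap.range (KaehlerDifferential.kerCotangentToTensor k R (ResidueField R)) := by
    exact ((KaehlerDifferential.exact_kerCotangentToTensor_mapBaseChange k R _ hf) w).1
      (Subsingleton.elim _ _)
  obtain ⟨⟨π, hπ⟩, rfl⟩ := Ideal.toCotangent_surjective _ c
  rw [KaehlerDifferential.kerCotangentToTensor_toCotangent] at hc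
  have hD : ∀ y : R, (1 : ResidueField R) ⊗ₜ[R] KaehlerDifferential.D k R y =
      e (KaehlerDifferential.D k R y) • w := fun y => by
    rw [show e (KaehlerDifferential.D k R y) • w =
      (1 : ResidueField R) ⊗ₜ[R] (e (KaehlerDifferential.D k R y) • e.symm 1) from
        (TensorProduct.tmul_smul _ _ _).symm, ← map_smul, smul_eq_mul, mul_one, e.symm_apply_apply]
  have hle : maximalIdeal R ≤ Ideal.span {π} ⊔ maximalIdeal R • maximalIdeal R := by
    intro y hy
    rw [← hm] at hy
    have h1 : l (1 ⊗ₜ[R] KaehlerDifferential.D k R y) = m.toCotangent ⟨y, hy⟩ :=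
      LinearMap.congr_fun hl (m.toCotangent ⟨y, hy⟩)
    have h2 : l (1 ⊗ₜ[R] KaehlerDifferential.D k R π) = m.toCotangent ⟨π, hπ⟩ :=
      LinearMap.congr_fun hl (m.toCotangent ⟨π, hπ⟩)
    rw [hD y, map_smul, ← hc] at h1
    rw [h2, ← map_smul, Ideal.toCotangent_eq] at h1
    set a := e (KaehlerDifferential.D k R y)
    have h3 : a * π - y ∈ maximalIdeal R • maximalIdeal R := by
      rw [← hm, smul_eq_mul, ← pow_two]
      exact h1
    exact Submodule.mem_sup.2 ⟨a * π, Ideal.mem_span_singleton'.2 ⟨a, rfl⟩, -(a * π - y),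
      neg_mem h3, by ring⟩
  have hspan : maximalIdeal R ≤ Ideal.span {π} :=
    Submodule.le_of_le_smul_of_le_jacobson_bot (IsNoetherian.noetherian (maximalIdeal R))
      (maximalIdeal_le_jacobson ⊥) hle
  obtain ⟨t, ht⟩ := Ideal.mem_span_singleton'.1 (hspan ((mem_maximalIdeal s).2 hs.not_isUnit))
  have hπm : π ∈ maximalIdeal R := hm ▸ hπ
  have htu : IsUnit t := (hs.isUnit_or_isUnit ht.symm).resolve_right ((mem_maximalIdeal π).1 hπm)
  have hnm : residue R (e (KaehlerDifferential.D k R s)) ≠ 0 := by
    intro h0
    let φ : ResidueField R ⊗[R] Ω[R⁄k] →ₗ[R] ResidueField R :=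
      (TensorProduct.rid R _).toLinearMap ∘ₗ e.toLinearMap.lTensor _
    have hw : φ w = 1 := by simp [φ, w]
    have h1 : φ (1 ⊗ₜ[R] KaehlerDifferential.D k R s) = 0 := by
      rw [hD, map_smul, hw, ← Algebra.algebraMap_eq_smul_one]
      exact h0
    rw [← ht, Derivation.leibniz, tmul_add, tmul_smul, tmul_smul, hc, map_add, map_smul, map_smul, hw,
      ← Algebra.algebraMap_eq_smul_one, Algebra.smul_def π,
      show algebraMap R (ResidueField R) π = 0 from hπ, zero_mul, add_zero] at h1
    exact (htu.map (algebraMap R (ResidueField R))).ne_zero h1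
  have hu : IsUnit (e (KaehlerDifferential.D k R s)) := by
    rwa [ne_eq, residue_eq_zero_iff, mem_maximalIdeal, mem_nonunits_iff, not_not] at hnm
  have h := e.symm.bijective.comp ((IsUnit.isUnit_iff_mulRight_bijective).1 hu)
  convert h using 1
  ext a
  rw [Function.comp_apply, ← smul_eq_mul, map_smul, e.symm_apply_apply]

/-- Localizations of standard smooth algebras of relative dimension one. -/
theorem exists_equiv_of_isLocalization {B : Type u} [CommRing B] [Algebra k B] [Algebra B R]
    [IsScalarTower k B R] (M : Submonoid B) [IsLocalization M R]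
    [Algebra.IsStandardSmoothOfRelativeDimension 1 k B] :
    Algebra.FormallySmooth k R ∧ IsNoetherianRing R ∧ Nonempty (Ω[R⁄k] ≃ₗ[R] R) := by
  have : Algebra.IsStandardSmooth k B :=
    Algebra.IsStandardSmoothOfRelativeDimension.isStandardSmooth 1
  have : Algebra.Smooth k B := inferInstance
  have : Algebra.FormallyEtale B R := Algebra.FormallyEtale.of_isLocalization M
  have : Nontrivial B := (algebraMap B R).domain_nontrivial
  refine ⟨Algebra.FormallySmooth.comp k B R,
    IsLocalization.isNoetherianRing M R (Algebra.FiniteType.isNoetherianRing k B), ⟨?_⟩⟩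
  have : Module.Free B Ω[B⁄k] := inferInstance
  have hr : Module.rank B Ω[B⁄k] = 1 := by
    simpa using Algebra.IsStandardSmoothOfRelativeDimension.rank_kaehlerDifferential (R := k) (S := B) 1
  let b := Module.Free.chooseBasis B Ω[B⁄k]
  have hι := b.mk_eq_rank''
  rw [hr] at hι
  have := (Cardinal.eq_one_iff_unique.1 hι).1
  have := (Cardinal.eq_one_iff_unique.1 hι).2
  have : Unique (Module.Free.ChooseBasisIndex B Ω[B⁄k]) := Classical.choice ((unique_iff_subsingleton_and_nonempty _).2 ⟨‹_›, ‹_›⟩)
  exact (KaehlerDifferential.tensorKaehlerEquivOfFormallyEtale k B R).symm ≪≫ₗ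
    (b.baseChange R).equivFun ≪≫ₗ LinearEquiv.funUnique _ R R

end GrothLib.UnifDiff9
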